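import Groth.Agent.Lib.Strat6.Noetherian
import Groth.Agent.Lib.AbsApprox.System
import Mathlib.AlgebraicGeometry.Morphisms.QuasiSeparated
import Mathlib.AlgebraicGeometry.PullbackCarrier

/-!
# Affine stratifications of quasi-compact quasi-separated schemes
-/

universe u

open AlgebraicGeometry CategoryTheory CategoryTheory.Limits TopologicalSpace Opposite

namespace GrothLib.Strat6

/-- Noetherian schemes have finite affine stratifications (of some length). -/
theorem exists_hasAffineStratification_of_closedImmersion (X : Scheme.{u}) [IsNoetherian X] (C : Closeds X) :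
    ∀ (Y : Scheme.{u}) (i : Y ⟶ X), IsClosedImmersion i → Set.range i = (C : Set X) →
      ∃ n, MoreMor.HasAffineStratification Y n := by
  induction C using WellFoundedLT.induction with
  | _ C ih =>
    intro Y i hi hr
    classical
    have : CompactSpace Y := QuasiCompact.compactSpace_of_compactSpace i
    have : IsLocallyNoetherian Y := LocallyOfFiniteType.isLocallyNoetherian i
    have : IsNoetherian Y := ⟨⟩
    obtain ⟨U, hU, hι, hgen⟩ := exists_dense_affine_isAffineHom Y
    by_cases hYe : IsEmpty Y
    · refine ⟨0, fun _ => 0, fun j => by simp, fun j => ⟨U, U.ι, inferInstance, hU, hι, ?_⟩⟩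
      ext x
      exact (hYe.false x).elim
    let I : Y.IdealSheafData := .vanishingIdeal ⟨(U : Set Y)ᶜ, U.2.isClosed_compl⟩
    have hrI : Set.range I.subschemeι = (U : Set Y)ᶜ := by
      rw [Scheme.IdealSheafData.range_subschemeι, Scheme.IdealSheafData.coe_support_vanishingIdeal]
      rfl
    let D : Closeds X := ⟨Set.range (I.subschemeι ≫ i), (I.subschemeι ≫ i).isClosedEmbedding.isClosed_range⟩
    have hDC : D < C := by
      refine lt_of_le_not_ge (fun x hx => ?_) fun hle => ?_
      · obtain ⟨z, rfl⟩ := hx
        exact hr.subset ⟨I.subschemeι z, rfl⟩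
      · obtain ⟨y⟩ := not_isEmpty_iff.1 hYe
        obtain ⟨K, hK, hyK⟩ := exists_mem_irreducibleComponents_subset_of_isIrreducible
          (closure {y}) isIrreducible_singleton.closure
        obtain ⟨η, hη⟩ := QuasiSober.sober hK.1 (isClosed_of_mem_irreducibleComponents K hK)
        have hηU : η ∈ U := hgen (show closure {η} ∈ irreducibleComponents (Y : Type u) by rw [hη.def]; exact hK)
        have hηD : i η ∈ D := hle (show i η ∈ C from hr.subset ⟨η, rfl⟩)
        obtain ⟨z, hz⟩ := hηD
        rw [Scheme.Hom.comp_apply] at hz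
        exact hrI.subset ⟨z, i.isClosedEmbedding.injective hz⟩ hηU
    obtain ⟨n, s, hs, hstrat⟩ := ih D hDC I.subscheme (I.subschemeι ≫ i) inferInstance rfl
    have hpre : ∀ x : Y, x ∉ U → ∃ z, I.subschemeι z = x := fun x hx => hrI.symm.subset hx
    choose g hg using hpre
    refine ⟨n + 1, fun x => if hx : x ∈ U then Fin.last (n + 1) else (s (g x hx)).castSucc, fun j => ?_, fun j => ?_⟩
    · induction j using Fin.lastCases with
      | last => simp [Fin.le_last]
      | cast j =>
        have : {x : Y | (if hx : x ∈ U then Fin.last (n + 1) else (s (g x hx)).castSucc) ≤ j.castSucc} =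
            I.subschemeι '' {z | s z ≤ j} := by
          ext x
          constructor
          · intro hx
            by_cases hxU : x ∈ U
            · simp only [Set.mem_ofPred_eq, dif_pos hxU] at hx
              exact absurd hx (not_le.2 (Fin.castSucc_lt_last j))
            · simp only [Set.mem_ofPred_eq, dif_neg hxU, Fin.castSucc_le_castSucc_iff] at hx
              exact ⟨g x hxU, hx, hg x hxU⟩
          · rintro ⟨z, hz, rfl⟩
            have hzU : I.subschemeι z ∉ U := hrI.subset ⟨z, rfl⟩
            simp only [Set.mem_ofPred_eq, dif_neg hzU, Fin.castSucc_le_castSucc_iff]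
            rwa [I.subschemeι.isClosedEmbedding.injective (hg _ hzU)]
        rw [this]
        exact I.subschemeι.isClosedEmbedding.isClosedMap _ (hs j)
    · induction j using Fin.lastCases with
      | last =>
        refine ⟨U, U.ι, inferInstance, hU, hι, ?_⟩
        ext x
        by_cases hxU : x ∈ U <;> simp [hxU, (Fin.castSucc_lt_last _).ne]
      | cast j =>
        obtain ⟨S, j', hj₁, hj₂, hj₃, hj₄⟩ := hstrat j
        refine ⟨S, j' ≫ I.subschemeι, inferInstance, hj₂, inferInstance, ?_⟩
        rw [Scheme.Hom.comp_base, TopCat.coe_comp, Set.range_comp, hj₄]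
        ext x
        constructor
        · rintro ⟨z, hz, rfl⟩
          have hzU : I.subschemeι z ∉ U := hrI.subset ⟨z, rfl⟩
          simp only [Set.mem_ofPred_eq, dif_neg hzU, Fin.castSucc_inj]
          rwa [I.subschemeι.isClosedEmbedding.injective (hg _ hzU)]
        · intro hx
          by_cases hxU : x ∈ U
          · simp only [Set.mem_ofPred_eq, dif_pos hxU] at hx
            exact absurd hx.symm (Fin.castSucc_lt_last j).ne
          · simp only [Set.mem_ofPred_eq, dif_neg hxU, Fin.castSucc_inj] at hx
            exact ⟨g x hxU, hx, hg x hxU⟩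

/-- Stratifications pull back along affine morphisms. -/
theorem hasAffineStratification_of_isAffineHom {S X : Scheme.{u}} (g : S ⟶ X) [IsAffineHom g] {n : ℕ}
    (h : MoreMor.HasAffineStratification X n) : MoreMor.HasAffineStratification S n := by
  obtain ⟨s, hs, hstrat⟩ := h
  refine ⟨fun x => s (g x), fun i => (hs i).preimage g.continuous, fun i => ?_⟩
  obtain ⟨Z, ι, hι₁, hZ, hι₂, hr⟩ := hstrat i
  have : IsAffineHom (pullback.fst ι g) := MorphismProperty.pullback_fst _ _ ‹IsAffineHom g›
  refine ⟨pullback ι g, pullback.snd ι g, MorphismProperty.pullback_snd _ _ hι₁,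
    isAffine_of_isAffineHom (pullback.fst ι g), MorphismProperty.pullback_snd _ _ hι₂, ?_⟩
  rw [Scheme.Pullback.range_snd, hr]
  rfl

theorem exists_hasAffineStratification (S : Scheme.{u}) [CompactSpace S] [QuasiSeparatedSpace S] :
    ∃ n, MoreMor.HasAffineStratification S n := by
  obtain ⟨𝒲⟩ := GrothLib.AbsApprox.nonempty_cov (S := S)
  obtain ⟨B⟩ : Nonempty 𝒲.Idx := inferInstance
  let X₀ := GrothLib.AbsApprox.Cov.model B.2
  haveI : CompactSpace X₀ := GrothLib.AbsApprox.Cov.compactSpace_model B.2
  haveI hft : LocallyOfFiniteType (IsTerminal.from specULiftZIsTerminal X₀) :=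
    GrothLib.AbsApprox.Cov.locallyOfFiniteType_model B.2
  haveI : IsNoetherianRing (ULift.{u} ℤ) := isNoetherianRing_of_ringEquiv ℤ ULift.ringEquiv.symm
  haveI : IsLocallyNoetherian (Spec (CommRingCat.of (ULift.{u} ℤ))) := inferInstance
  haveI : IsLocallyNoetherian X₀ := LocallyOfFiniteType.isLocallyNoetherian (IsTerminal.from specULiftZIsTerminal X₀)
  haveI : IsNoetherian X₀ := ⟨⟩
  obtain ⟨n, hn⟩ := exists_hasAffineStratification_of_closedImmersion X₀ ⊤ X₀ (𝟙 X₀) inferInstance (by simp)
  haveI := GrothLib.AbsApprox.Cov.isAffineHom_toModel B.2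
  exact ⟨n, hasAffineStratification_of_isAffineHom (GrothLib.AbsApprox.Cov.toModel B.2) hn⟩

theorem qcqs_of_hasAffineStratification {X : Scheme.{u}} {n : ℕ} (h : MoreMor.HasAffineStratification X n) :
    CompactSpace X ∧ QuasiSeparatedSpace X := by
  obtain ⟨s, -, hstrat⟩ := h
  choose Z ι hι₁ hZ hι₂ hr using hstrat
  have hc : ∀ V W : Set X, (∀ i, IsCompact (ι i ⁻¹' (V ∩ W))) → IsCompact (V ∩ W) := by
    intro V W hVW
    have : V ∩ W = ⋃ i, ι i '' (ι i ⁻¹' (V ∩ W)) := by
      ext x
      simp only [Set.mem_iUnion, Set.image_preimage_eq_inter_range, hr, Set.mem_inter_iff, Set.mem_ofPred_eq]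
      exact ⟨fun hx => ⟨s x, hx, rfl⟩, fun ⟨_, hx, _⟩ => hx⟩
    rw [this]
    exact isCompact_iUnion fun i => (hVW i).image (ι i).continuous
  refine ⟨⟨?_⟩, ?_⟩
  · have := hc Set.univ Set.univ fun i => by
      haveI := hZ i
      simp only [Set.inter_self, Set.preimage_univ]
      exact isCompact_univ
    simpa using this
  · rw [quasiSeparatedSpace_iff_forall_affineOpens]
    intro U V
    refine hc _ _ fun i => ?_
    haveI := hZ i
    haveI := hι₂ i
    rw [Set.preimage_inter]
    exact ((U.2.preimage (ι i)).inf (V.2.preimage (ι i))).isCompact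

end GrothLib.Strat6
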