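import Groth.Prelude.Def_MoreMor
import Mathlib.AlgebraicGeometry.Limits
import Mathlib.AlgebraicGeometry.Noetherian
import Mathlib.AlgebraicGeometry.IdealSheaf.Subscheme
import Mathlib.AlgebraicGeometry.Morphisms.Affine
import Mathlib.Topology.KrullDimension

/-!
# Affine stratifications of Noetherian schemes
-/

universe u

open AlgebraicGeometry CategoryTheory CategoryTheory.Limits TopologicalSpace

namespace GrothLib.Strat6

/-- A Noetherian scheme has an affine open containing all generic points whose inclusion is affine. -/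
theorem exists_dense_affine_isAffineHom (X : Scheme.{u}) [IsNoetherian X] :
    ∃ U : X.Opens, IsAffineOpen U ∧ IsAffineHom U.ι ∧ genericPoints (X : Type u) ⊆ U := by
  classical
  have hfin : (irreducibleComponents (X : Type u)).Finite := NoetherianSpace.finite_irreducibleComponents
  have hgfin : (genericPoints (X : Type u)).Finite := genericPoints.finite hfin
  have : Finite (genericPoints (X : Type u)) := hgfin.to_subtype
  have hcover : ∀ y : X, ∃ η ∈ genericPoints (X : Type u), y ∈ closure ({η} : Set X) := by
    intro y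
    have hy : y ∈ closure (genericPoints (X : Type u)) := by rw [genericPoints.closure]; trivial
    rw [← Set.biUnion_of_singleton (genericPoints (X : Type u)), hgfin.closure_biUnion] at hy
    obtain ⟨η, hη, hy⟩ := Set.mem_iUnion₂.mp hy
    exact ⟨η, hη, hy⟩
  let 𝒰 := X.affineCover.finiteSubcover
  let V : 𝒰.I₀ → X.Opens := fun k => (𝒰.f k).opensRange
  have hV : ∀ k, IsAffineOpen (V k) := fun k =>
    haveI : IsAffine (𝒰.X k) := inferInstanceAs (IsAffine (X.affineCover.X _))
    isAffineOpen_opensRange (𝒰.f k)
  let Ω : genericPoints (X : Type u) → Set X := fun η =>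
    (⋃ η' ∈ (genericPoints (X : Type u) \ {η.1}), closure ({η'} : Set X))ᶜ ∩
      ⋂ k ∈ {k | η.1 ∈ V k}, (V k : Set X)
  have hΩo : ∀ η, IsOpen (Ω η) := fun η =>
    ((hgfin.subset Set.diff_subset).isClosed_biUnion fun _ _ => isClosed_closure).isOpen_compl.inter
      ((Set.toFinite {k | η.1 ∈ V k}).isOpen_biInter fun k _ => (V k).2)
  have hΩ : ∀ η, η.1 ∈ Ω η := by
    intro η
    refine ⟨fun hmem => ?_, Set.mem_iInter₂.2 fun k hk => hk⟩
    obtain ⟨η', ⟨hη', hne⟩, h⟩ := Set.mem_iUnion₂.mp hmem
    have hle : closure ({η.1} : Set X) ≤ closure {η'} :=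
      closure_minimal (Set.singleton_subset_iff.mpr h) isClosed_closure
    have : closure ({η.1} : Set X) = closure {η'} :=
      le_antisymm hle (η.2.2 isIrreducible_singleton.closure hle)
    exact hne (Inseparable.eq ((inseparable_iff_closure_eq).mpr this)).symm
  choose W hW hηW hWΩ using fun η =>
    exists_isAffineOpen_mem_and_subset (x := η.1) (U := (⟨Ω η, hΩo η⟩ : X.Opens)) (hΩ η)
  have honly : ∀ η (y : X), y ∈ W η → ∀ η' ∈ genericPoints (X : Type u),
      y ∈ closure ({η'} : Set X) → η' = η.1 := by
    intro η y hy η' hη' hy'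
    by_contra hne
    exact (hWΩ η hy).1 (Set.mem_iUnion₂.mpr ⟨η', ⟨hη', hne⟩, hy'⟩)
  have hdW : ∀ η η', η ≠ η' → Disjoint (W η) (W η') := by
    intro η η' hne
    rw [disjoint_iff]
    ext y
    refine ⟨fun hy => ?_, fun h => h.elim⟩
    obtain ⟨ζ, hζ, hyζ⟩ := hcover y
    exact absurd (Subtype.ext ((honly η y hy.1 ζ hζ hyζ).symm.trans (honly η' y hy.2 ζ hζ hyζ))) hne
  have haff : IsAffineOpen (⨆ η, W η) := IsAffineOpen.iSup_of_disjoint hW fun η η' hne => hdW η η' hne
  refine ⟨⨆ η, W η, haff, isAffineHom_of_forall_exists_isAffineOpen _ fun x => ?_,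
    fun η hη => Opens.mem_iSup.2 ⟨⟨η, hη⟩, hηW ⟨η, hη⟩⟩⟩
  obtain ⟨k, z, hz⟩ := 𝒰.exists_eq x
  refine ⟨V k, ⟨z, hz⟩, hV k, ?_⟩
  have hpiece : ∀ η, IsAffineOpen (W η ⊓ V k) := by
    intro η
    by_cases hk : η.1 ∈ V k
    · have : W η ⊓ V k = W η := inf_eq_left.2 fun y hy => (Set.mem_iInter₂.1 (hWΩ η hy).2) k hk
      rw [this]; exact hW η
    · have : W η ⊓ V k = ⊥ := by
        ext y
        refine ⟨fun hy => ?_, fun h => h.elim⟩
        obtain ⟨ζ, hζ, hyζ⟩ := hcover y
        obtain rfl := honly η y hy.1 ζ hζ hyζ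
        exact hk ((specializes_iff_mem_closure.2 hyζ).mem_open (V k).2 hy.2)
      rw [this]; exact isAffineOpen_bot X
  have := IsAffineOpen.iSup_of_disjoint hpiece fun η η' hne =>
    Disjoint.mono inf_le_left inf_le_left (hdW η η' hne)
  rw [← iSup_inf_eq] at this
  rw [← Scheme.Hom.isAffineOpen_iff_of_isOpenImmersion (⨆ η, W η).ι, Scheme.Hom.image_preimage_eq_opensRange_inf,
    Scheme.Opens.opensRange_ι]
  exact this

/-- A closed subset containing no generic point has smaller dimension. -/
theorem topologicalKrullDim_le_of_disjoint_genericPoints {T : Type u} [TopologicalSpace T] [QuasiSober T]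
    {Z : Set T} (hZ : IsClosed Z) (hgen : ∀ z ∈ Z, z ∉ genericPoints T) {d : ℕ}
    (h : topologicalKrullDim T ≤ ((d + 1 : ℕ) : WithBot ℕ∞)) :
    topologicalKrullDim Z ≤ (d : WithBot ℕ∞) := by
  refine iSup_le fun l => ?_
  let f : IrreducibleCloseds Z → IrreducibleCloseds T := fun s =>
    ⟨Subtype.val '' (s : Set Z), s.2.image _ continuous_subtype_val.continuousOn,
      hZ.isClosedEmbedding_subtypeVal.isClosedMap _ s.3⟩
  have hf : StrictMono f := fun a b hab => by
    have hab' : (a : Set Z) ⊂ b := SetLike.coe_ssubset_coe.2 hab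
    exact (Set.image_mono hab'.subset).ssubset_of_ne fun he => hab'.ne (Set.image_injective.2 Subtype.val_injective he)
  obtain ⟨C, hC, hlC⟩ := exists_mem_irreducibleComponents_subset_of_isIrreducible
    ((f l.last : IrreducibleCloseds T) : Set T) (f l.last).2
  let C' : IrreducibleCloseds T := ⟨C, hC.1, isClosed_of_mem_irreducibleComponents C hC⟩
  have hlt : f l.last < C' := by
    refine lt_of_le_of_ne hlC fun he => ?_
    obtain ⟨η, hη⟩ := QuasiSober.sober C'.2 C'.3
    have hmem : η ∈ ((f l.last : IrreducibleCloseds T) : Set T) := by rw [he]; exact hη.mem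
    obtain ⟨z, -, rfl⟩ := hmem
    refine hgen _ z.2 ?_
    show closure {(z : T)} ∈ irreducibleComponents T
    rw [hη.def]
    exact hC
  have hlen := (Order.LTSeries.length_le_krullDim ((l.map f hf).snoc C' (by rw [LTSeries.last_map]; exact hlt))).trans h
  simp only [RelSeries.snoc_length, LTSeries.map_length] at hlen
  have : l.length + 1 ≤ d + 1 := by exact_mod_cast hlen
  exact_mod_cast (by omega : l.length ≤ d)

theorem hasAffineStratification (d : ℕ) : ∀ (X : Scheme.{u}) [IsNoetherian X],
    topologicalKrullDim X ≤ (d : WithBot ℕ∞) → MoreMor.HasAffineStratification X d := by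
  induction d with
  | zero =>
    intro X _ hd
    obtain ⟨U, hU, hι, hgen⟩ := exists_dense_affine_isAffineHom X
    have hall : ∀ x : X, x ∈ U := by
      intro x
      obtain ⟨C, hC, hxC⟩ := exists_mem_irreducibleComponents_subset_of_isIrreducible
        (closure {x}) isIrreducible_singleton.closure
      by_contra hx
      have hlt : (⟨closure {x}, isIrreducible_singleton.closure, isClosed_closure⟩ : IrreducibleCloseds X) <
          ⟨C, hC.1, isClosed_of_mem_irreducibleComponents C hC⟩ := by
        refine lt_of_le_of_ne hxC fun he => hx (hgen ?_)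
        show closure {x} ∈ irreducibleComponents (X : Type u)
        rw [show closure {x} = C from congrArg SetLike.coe he]
        exact hC
      exact ((Order.krullDim_nonpos_iff_forall_isMax.1 hd) _).not_lt hlt
    refine ⟨fun _ => 0, fun i => ?_, fun i => ⟨U, U.ι, inferInstance, hU, hι, ?_⟩⟩
    · simp
    · ext x
      simp [hall x, show i = 0 from Fin.fin_one_eq_zero i]
  | succ d ih =>
    intro X _ hd
    classical
    obtain ⟨U, hU, hι, hgen⟩ := exists_dense_affine_isAffineHom X
    let I : X.IdealSheafData := .vanishingIdeal ⟨(U : Set X)ᶜ, U.2.isClosed_compl⟩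
    let Z := I.subscheme
    have hr : Set.range I.subschemeι = (U : Set X)ᶜ := by
      rw [Scheme.IdealSheafData.range_subschemeι, Scheme.IdealSheafData.coe_support_vanishingIdeal]
      rfl
    have : CompactSpace Z := QuasiCompact.compactSpace_of_compactSpace I.subschemeι
    have : IsLocallyNoetherian Z := LocallyOfFiniteType.isLocallyNoetherian I.subschemeι
    have : IsNoetherian Z := ⟨⟩
    have hdZ : topologicalKrullDim Z ≤ (d : WithBot ℕ∞) := by
      have e : Z ≃ₜ ((U : Set X)ᶜ : Set X) :=
        I.subschemeι.isClosedEmbedding.isEmbedding.toHomeomorph.trans (Homeomorph.setCongr hr)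
      rw [IsHomeomorph.topologicalKrullDim_eq _ e.isHomeomorph]
      exact topologicalKrullDim_le_of_disjoint_genericPoints U.2.isClosed_compl
        (fun z hz hg => hz (hgen hg)) hd
    obtain ⟨s, hs, hstrat⟩ := ih Z hdZ
    have hpre : ∀ x : X, x ∉ U → ∃ z, I.subschemeι z = x := fun x hx => hr.symm.subset hx
    choose g hg using hpre
    refine ⟨fun x => if hx : x ∈ U then Fin.last (d + 1) else (s (g x hx)).castSucc, fun i => ?_, fun i => ?_⟩
    · induction i using Fin.lastCases with
      | last => simp [Fin.le_last]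
      | cast j =>
        have : {x : X | (if hx : x ∈ U then Fin.last (d + 1) else (s (g x hx)).castSucc) ≤ j.castSucc} =
            I.subschemeι '' {z | s z ≤ j} := by
          ext x
          constructor
          · intro hx
            by_cases hxU : x ∈ U
            · simp only [Set.mem_ofPred_eq, dif_pos hxU] at hx
              exact absurd hx (not_le.2 (Fin.castSucc_lt_last j))
            · simp only [Set.mem_ofPred_eq, dif_neg hxU, Fin.castSucc_le_castSucc_iff] at hx
              exact ⟨g x hxU, hx, hg x hxU⟩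
          · rintro ⟨z, hz, rfl⟩
            have hzU : I.subschemeι z ∉ U := hr.subset ⟨z, rfl⟩
            simp only [Set.mem_ofPred_eq, dif_neg hzU, Fin.castSucc_le_castSucc_iff]
            rwa [I.subschemeι.isClosedEmbedding.injective (hg _ hzU)]
        rw [this]
        exact I.subschemeι.isClosedEmbedding.isClosedMap _ (hs j)
    · induction i using Fin.lastCases with
      | last =>
        refine ⟨U, U.ι, inferInstance, hU, hι, ?_⟩
        ext x
        by_cases hxU : x ∈ U <;> simp [hxU, (Fin.castSucc_lt_last _).ne]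
      | cast j =>
        obtain ⟨S, j', hj₁, hj₂, hj₃, hj₄⟩ := hstrat j
        refine ⟨S, j' ≫ I.subschemeι, inferInstance, hj₂, inferInstance, ?_⟩
        rw [Scheme.Hom.comp_base, TopCat.coe_comp, Set.range_comp, hj₄]
        ext x
        constructor
        · rintro ⟨z, hz, rfl⟩
          have hzU : I.subschemeι z ∉ U := hr.subset ⟨z, rfl⟩
          simp only [Set.mem_ofPred_eq, dif_neg hzU, Fin.castSucc_inj]
          rwa [I.subschemeι.isClosedEmbedding.injective (hg _ hzU)]
        · intro hx
          by_cases hxU : x ∈ U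
          · simp only [Set.mem_ofPred_eq, dif_pos hxU] at hx
            exact absurd hx.symm (Fin.castSucc_lt_last j).ne
          · simp only [Set.mem_ofPred_eq, dif_neg hxU, Fin.castSucc_inj] at hx
            exact ⟨g x hxU, hx, hg x hxU⟩

end GrothLib.Strat6
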